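import Groth.Prelude.Def_KZero
import Groth.Agent.EssConstD.Basic
import Mathlib.Algebra.BigOperators.Finprod
import Mathlib.Algebra.Ring.Int.Parity

/-!
# K₀ of the bounded derived category
-/

set_option backward.isDefEq.respectTransparency false
set_option backward.isDefEq.respectTransparency.types false
set_option linter.style.haveILetI false
set_option autoImplicit false

universe w v u

open CategoryTheory Limits Pretriangulated ZeroObject
open DerivedCategory.TStructure (t)

namespace Groth.Agent.K0Der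

variable {A : Type u} [Category.{v} A] [Abelian A]

open KZero (cl K0)

theorem cl_add {S : ShortComplex A} (hS : S.ShortExact) : cl S.X₂ = cl S.X₁ + cl S.X₃ := by
  refine eq_add_of_sub_eq' (sub_eq_zero.1 ?_)
  exact (QuotientAddGroup.eq_zero_iff _).2 (AddSubgroup.subset_closure ⟨S, hS, rfl⟩)

theorem cl_zero {Z : A} (hZ : IsZero Z) : cl Z = 0 := by
  have h := cl_add (S := ShortComplex.mk (𝟙 Z) (𝟙 Z) (hZ.eq_of_src _ _))
    { exact := ShortComplex.exact_of_isZero_X₂ _ hZ }
  exact left_eq_add.1 h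

theorem cl_iso {X Y : A} (e : X ≅ Y) : cl X = cl Y := by
  have h := cl_add (S := ShortComplex.mk e.hom (0 : Y ⟶ 0) comp_zero)
    { exact := (ShortComplex.mk e.hom (0 : Y ⟶ 0) comp_zero).exact_iff_epi rfl |>.2 inferInstance
      mono_f := inferInstanceAs (Mono e.hom)
      epi_g := epi_of_isZero_target _ (isZero_zero A) }
  rw [cl_zero (isZero_zero A), add_zero] at h
  exact h.symm
where
  epi_of_isZero_target {P Q : A} (f : P ⟶ Q) (h : IsZero Q) : Epi f := ⟨fun _ _ _ => h.eq_of_src _ _⟩

/-- Exactness in the middle splits the class. -/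
theorem cl_middle {S : ShortComplex A} (hS : S.Exact) :
    cl S.X₂ = cl (image S.f) + cl (image S.g) := by
  haveI := hS.epi_kernelLift
  have h := cl_add (S := ShortComplex.mk (kernel.ι S.g) (factorThruImage S.g)
    (by rw [← cancel_mono (image.ι S.g), Category.assoc, image.fac, kernel.condition, zero_comp]))
    { exact := by
        apply ShortComplex.exact_of_f_is_kernel
        exact KernelFork.IsLimit.ofι' _ _ fun {T} k hk => ⟨kernel.lift S.g k (by
          rw [← image.fac S.g, reassoc_of% hk, zero_comp]), kernel.lift_ι _ _ _⟩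
      mono_f := by dsimp; infer_instance
      epi_g := by dsimp; infer_instance }
  haveI : StrongEpi (kernel.lift S.g S.f S.zero) := strongEpi_of_epi _
  rw [cl_iso (image.isoStrongEpiMono (kernel.lift S.g S.f S.zero) (kernel.ι S.g) (kernel.lift_ι _ _ _))] at h
  exact h

theorem cl_image_zero {X Y : A} {f : X ⟶ Y} (hf : f = 0) : cl (image f) = 0 := by
  subst hf
  exact cl_zero ((isZero_zero A).of_iso imageZero)

variable [HasDerivedCategory.{w} A]

local notation "Hd" => DerivedCategory.homologyFunctor A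

/-- Bounded objects of the derived category. -/
abbrev Pb : ObjectProperty (DerivedCategory A) := fun X => ∃ a b : ℤ, X.IsGE a ∧ X.IsLE b

/-- The sign `(-1) ^ i`. -/
def sg (i : ℤ) : ℤ := if Even i then 1 else -1

theorem sg_succ (i : ℤ) : sg (i + 1) = -sg i := by
  unfold sg
  by_cases h : Even i <;> simp [h, Int.even_add_one]

/-- The Euler characteristic. -/
noncomputable def χ (X : DerivedCategory A) : K0 A := ∑ᶠ i : ℤ, sg i • cl ((Hd i).obj X)

theorem finite_support {c : ℤ → K0 A} {a b : ℤ} (h : ∀ i, i < a ∨ b < i → c i = 0) :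
    (Function.support fun i => sg i • c i).Finite :=
  (Set.finite_Icc a b).subset fun i hi => by
    by_contra hh
    simp only [Set.mem_Icc, not_and_or, not_le] at hh
    exact hi (by simp [h i hh])

theorem cl_hom_zero {X : DerivedCategory A} {a b : ℤ} [X.IsGE a] [X.IsLE b] (i : ℤ) (hi : i < a ∨ b < i) :
    cl ((Hd i).obj X) = 0 :=
  cl_zero (hi.elim (fun h => DerivedCategory.isZero_of_isGE X a i h) (fun h => DerivedCategory.isZero_of_isLE X b i h))

theorem χ_add (T : Triangle (DerivedCategory A)) (hT : T ∈ Pretriangulated.distinguishedTriangles)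
    (h₁ : Pb T.obj₁) (h₂ : Pb T.obj₂) (h₃ : Pb T.obj₃) : χ T.obj₂ = χ T.obj₁ + χ T.obj₃ := by
  obtain ⟨a₁, b₁, _, _⟩ := h₁
  obtain ⟨a₂, b₂, _, _⟩ := h₂
  obtain ⟨a₃, b₃, _, _⟩ := h₃
  let p : ℤ → K0 A := fun i => cl (image ((Hd i).map T.mor₁))
  let q : ℤ → K0 A := fun i => cl (image ((Hd i).map T.mor₂))
  let r : ℤ → K0 A := fun i => cl (image (DerivedCategory.HomologySequence.δ T i (i + 1) rfl))
  have e₂ : ∀ i, cl ((Hd i).obj T.obj₂) = p i + q i := fun i =>
    cl_middle (DerivedCategory.HomologySequence.exact₂ T hT i)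
  have e₃ : ∀ i, cl ((Hd i).obj T.obj₃) = q i + r i := fun i =>
    cl_middle (DerivedCategory.HomologySequence.exact₃ T hT i (i + 1) rfl)
  have e₁ : ∀ i, cl ((Hd (i + 1)).obj T.obj₁) = r i + p (i + 1) := fun i =>
    cl_middle (DerivedCategory.HomologySequence.exact₁ T hT i (i + 1) rfl)
  have zp : ∀ i, i < a₁ ∨ b₁ < i → p i = 0 := fun i hi => cl_image_zero
    ((hi.elim (fun h => DerivedCategory.isZero_of_isGE T.obj₁ a₁ i h) (fun h => DerivedCategory.isZero_of_isLE T.obj₁ b₁ i h)).eq_of_src _ _)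
  have zq : ∀ i, i < a₂ ∨ b₂ < i → q i = 0 := fun i hi => cl_image_zero
    ((hi.elim (fun h => DerivedCategory.isZero_of_isGE T.obj₂ a₂ i h) (fun h => DerivedCategory.isZero_of_isLE T.obj₂ b₂ i h)).eq_of_src _ _)
  have zr : ∀ i, i < a₃ ∨ b₃ < i → r i = 0 := fun i hi => cl_image_zero
    ((hi.elim (fun h => DerivedCategory.isZero_of_isGE T.obj₃ a₃ i h) (fun h => DerivedCategory.isZero_of_isLE T.obj₃ b₃ i h)).eq_of_src _ _)
  have fp := finite_support zp
  have fq := finite_support zq
  have fr := finite_support zr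
  have fr' : (Function.support fun i => sg i • r (i - 1)).Finite :=
    finite_support (a := a₃ + 1) (b := b₃ + 1) fun i hi => zr _ (hi.imp (by lia) (by lia))
  have E₂ : χ T.obj₂ = (∑ᶠ i, sg i • p i) + ∑ᶠ i, sg i • q i := by
    rw [← finsum_add_distrib fp fq, χ]
    exact finsum_congr fun i => by rw [e₂, smul_add]
  have E₃ : χ T.obj₃ = (∑ᶠ i, sg i • q i) + ∑ᶠ i, sg i • r i := by
    rw [← finsum_add_distrib fq fr, χ]
    exact finsum_congr fun i => by rw [e₃, smul_add]
  have E₁ : χ T.obj₁ = (∑ᶠ i, sg i • r (i - 1)) + ∑ᶠ i, sg i • p i := by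
    rw [← finsum_add_distrib fr' fp, χ]
    refine finsum_congr fun i => ?_
    have := e₁ (i - 1)
    rw [sub_add_cancel] at this
    rw [this, smul_add]
  have E : (∑ᶠ i, sg i • r (i - 1)) = -∑ᶠ i, sg i • r i := by
    rw [← finsum_neg_distrib, ← finsum_comp_equiv (Equiv.addRight (1 : ℤ))]
    refine finsum_congr fun i => ?_
    simp [sg_succ]
  rw [E₁, E₂, E₃, E]
  abel

theorem χ_single (m : ℤ) (X : A) : χ ((DerivedCategory.singleFunctor A m).obj X) = sg m • cl X := by
  rw [χ, finsum_eq_single _ m fun i hi => by rw [cl_hom_zero (a := m) (b := m) i (by lia), smul_zero]]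
  exact congrArg (sg m • ·) (cl_iso ((DerivedCategory.singleFunctorCompHomologyFunctorIso A m).app X))

open KZero (clTr K0tr)

theorem clTr_mk {X : DerivedCategory A} (h : Pb X) :
    clTr (Pb (A := A)) X = QuotientAddGroup.mk (FreeAbelianGroup.of ⟨X, h⟩) := dif_pos h

theorem clTr_add (T : Triangle (DerivedCategory A)) (hT : T ∈ Pretriangulated.distinguishedTriangles)
    (h₁ : Pb T.obj₁) (h₂ : Pb T.obj₂) (h₃ : Pb T.obj₃) :
    clTr Pb T.obj₂ = clTr Pb T.obj₁ + clTr Pb T.obj₃ := by
  rw [clTr_mk h₁, clTr_mk h₂, clTr_mk h₃]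
  refine eq_add_of_sub_eq' (sub_eq_zero.1 ?_)
  exact (QuotientAddGroup.eq_zero_iff _).2 (AddSubgroup.subset_closure ⟨T, h₁, h₂, h₃, hT, rfl⟩)

theorem pb_of_isZero {Z : DerivedCategory A} (hZ : IsZero Z) : Pb Z :=
  ⟨0, 0, t.isGE_of_isZero hZ 0, t.isLE_of_isZero hZ 0⟩

theorem clTr_zero {Z : DerivedCategory A} (hZ : IsZero Z) : clTr Pb Z = 0 := by
  have h := clTr_add _ (contractible_distinguished Z) (pb_of_isZero hZ) (pb_of_isZero hZ)
    (pb_of_isZero (isZero_zero _))
  have h' := clTr_add _ (rot_of_distTriang _ (contractible_distinguished (0 : DerivedCategory A)))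
    (pb_of_isZero (isZero_zero _)) (pb_of_isZero (isZero_zero _))
    (pb_of_isZero ((shiftFunctor (DerivedCategory A) (1 : ℤ)).map_isZero (isZero_zero _)))
  have e : clTr Pb (0 : DerivedCategory A) = 0 := by
    have := clTr_add _ (contractible_distinguished (0 : DerivedCategory A)) (pb_of_isZero (isZero_zero _))
      (pb_of_isZero (isZero_zero _)) (pb_of_isZero (isZero_zero _))
    exact left_eq_add.1 this
  have := clTr_add _ (isomorphic_distinguished _ (contractible_distinguished (0 : DerivedCategory A))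
    (Triangle.mk (0 : (0 : DerivedCategory A) ⟶ Z) (0 : Z ⟶ 0) 0)
    (Triangle.isoMk _ _ (Iso.refl _) (hZ.iso (isZero_zero _)) (Iso.refl _)
      ((isZero_zero _).eq_of_src _ _) (hZ.eq_of_src _ _) ((isZero_zero _).eq_of_src _ _)))
    (pb_of_isZero (isZero_zero _)) (pb_of_isZero hZ) (pb_of_isZero (isZero_zero _))
  simpa [e] using this

theorem pb_iso {X Y : DerivedCategory A} (e : X ≅ Y) (h : Pb X) : Pb Y := by
  obtain ⟨a, b, _, _⟩ := h
  exact ⟨a, b, t.isGE_of_iso e a, t.isLE_of_iso e b⟩

theorem clTr_iso {X Y : DerivedCategory A} (e : X ≅ Y) (h : Pb X) : clTr Pb X = clTr Pb Y := by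
  have hT : Triangle.mk e.hom (0 : Y ⟶ 0) 0 ∈ Pretriangulated.distinguishedTriangles :=
    isomorphic_distinguished _ (contractible_distinguished X) _
      (Triangle.isoMk _ _ (Iso.refl _) e.symm (Iso.refl _)
        (e.hom_inv_id.trans (Category.id_comp _).symm) ((isZero_zero _).eq_of_tgt _ _) (by simp))
  have := clTr_add _ hT h (pb_iso e h) (pb_of_isZero (isZero_zero _))
  change clTr Pb Y = clTr Pb X + clTr Pb (0 : DerivedCategory A) at this
  rw [clTr_zero (isZero_zero _), add_zero] at this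
  exact this.symm

theorem pb_shift {X : DerivedCategory A} (h : Pb X) : Pb (X⟦(1 : ℤ)⟧) := by
  obtain ⟨a, b, _, _⟩ := h
  exact ⟨a - 1, b - 1, t.isGE_shift X a 1 (a - 1) (by lia), t.isLE_shift X b 1 (b - 1) (by lia)⟩

theorem clTr_shift {X : DerivedCategory A} (h : Pb X) : clTr Pb (X⟦(1 : ℤ)⟧) = -clTr Pb X := by
  have := clTr_add _ (rot_of_distTriang _ (contractible_distinguished X)) h
    (pb_of_isZero (isZero_zero _)) (pb_shift h)
  change clTr Pb (0 : DerivedCategory A) = clTr Pb X + clTr Pb (X⟦(1 : ℤ)⟧) at this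
  rw [clTr_zero (isZero_zero _)] at this
  exact eq_neg_of_add_eq_zero_right this.symm

theorem pb_single (m : ℤ) (X : A) : Pb ((DerivedCategory.singleFunctor A m).obj X) :=
  ⟨m, m, inferInstance, inferInstance⟩

variable (A) in
/-- `[X] ↦ [X[0]]`. -/
noncomputable def φ : K0 A →+ K0tr (Pb (A := A)) :=
  QuotientAddGroup.lift _ (FreeAbelianGroup.lift fun X => clTr Pb ((DerivedCategory.singleFunctor A 0).obj X)) (by
    rw [KZero.relAb, AddSubgroup.closure_le]
    rintro _ ⟨S, hS, rfl⟩
    simp only [SetLike.mem_coe, AddMonoidHom.mem_ker, map_sub, FreeAbelianGroup.lift_apply_of]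
    have := clTr_add _ hS.singleTriangle_distinguished (pb_single 0 _) (pb_single 0 _) (pb_single 0 _)
    exact sub_sub _ _ _ |>.trans (sub_eq_zero.2 this))

variable (A) in
/-- The Euler characteristic on `K₀(D^b A)`. -/
noncomputable def ψ : K0tr (Pb (A := A)) →+ K0 A :=
  QuotientAddGroup.lift _ (FreeAbelianGroup.lift fun X => χ X.1) (by
    rw [KZero.relTr, AddSubgroup.closure_le]
    rintro _ ⟨T, h₁, h₂, h₃, hT, rfl⟩
    simp only [SetLike.mem_coe, AddMonoidHom.mem_ker, map_sub, FreeAbelianGroup.lift_apply_of]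
    exact sub_sub _ _ _ |>.trans (sub_eq_zero.2 (χ_add T hT h₁ h₂ h₃)))

theorem ψφ (x : K0 A) : ψ A (φ A x) = x := by
  obtain ⟨x, rfl⟩ := QuotientAddGroup.mk_surjective x
  induction x using FreeAbelianGroup.induction_on with
  | zero => simp
  | of X =>
    rw [show φ A (QuotientAddGroup.mk (FreeAbelianGroup.of X)) =
      clTr Pb ((DerivedCategory.singleFunctor A 0).obj X) from by simp [φ]]
    rw [clTr_mk (pb_single 0 X), show ψ A _ = χ ((DerivedCategory.singleFunctor A 0).obj X) from by
      simp only [ψ, QuotientAddGroup.lift_mk, FreeAbelianGroup.lift_apply_of], χ_single]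
    simp [sg, KZero.cl]
  | neg X h =>
    rw [QuotientAddGroup.mk_neg, map_neg, map_neg, h]
  | add a b ha hb => rw [QuotientAddGroup.mk_add, map_add, map_add, ha, hb]

theorem single_mem (m : ℤ) (X : A) :
    clTr Pb ((DerivedCategory.singleFunctor A m).obj X) = sg m • φ A (cl X) := by
  let F := fun m : ℤ => clTr Pb ((DerivedCategory.singleFunctor A m).obj X)
  have step : ∀ k : ℤ, F (k + 1) = -F k := fun k => by
    have e := ((DerivedCategory.singleFunctors A).shiftIso 1 k (k + 1) (by lia)).app X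
    have h₂ := clTr_iso e (pb_shift (pb_single (k + 1) X))
    erw [clTr_shift (pb_single (k + 1) X)] at h₂
    exact neg_eq_iff_eq_neg.1 h₂
  show F m = _
  induction m using Int.induction_on with
  | zero => simp [F, sg, φ, KZero.cl]
  | succ k ih => rw [step, ih, sg_succ, neg_smul]
  | pred k ih =>
    have h1 := step (-(k : ℤ) - 1)
    have h2 := sg_succ (-(k : ℤ) - 1)
    rw [sub_add_cancel] at h1 h2
    rw [h2, neg_smul] at ih
    exact neg_injective (h1.symm.trans ih)

theorem mem_range (j : ℕ) : ∀ (X : DerivedCategory A) (a : ℤ), X.IsGE a → X.IsLE (a + j - 1) →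
    clTr Pb X ∈ (φ A).range := by
  induction j with
  | zero =>
    intro X a _ _
    rw [clTr_zero (t.isZero X (a + ((0 : ℕ) : ℤ) - 1) a (by simp))]
    exact zero_mem _
  | succ j ih =>
    intro X a hge hle
    haveI : X.IsLE (a + j) := by
      rw [show a + (j : ℤ) = a + ((j + 1 : ℕ) : ℤ) - 1 from by push_cast; ring]; exact hle
    let n : ℤ := a + j
    haveI hL : ((t.truncLT n).obj X).IsGE a :=
      (DerivedCategory.isGE_iff _ _).2 fun i hi => by
        haveI := EssConstD.isIso_map_truncLTι X n i (by lia)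
        exact (DerivedCategory.isZero_of_isGE X a i hi).of_iso (asIso ((Hd i).map ((t.truncLTι n).app X)))
    haveI hR : ((t.truncGE n).obj X).IsLE n := inferInstanceAs (t.IsLE ((t.truncGE n).obj X) n)
    haveI : ((t.truncLT n).obj X).IsLE (a + j - 1) := inferInstanceAs (t.IsLE ((t.truncLT n).obj X) (n - 1))
    haveI : ((t.truncGE n).obj X).IsGE n := inferInstanceAs (t.IsGE ((t.truncGE n).obj X) n)
    have := clTr_add _ (t.triangleLTGE_distinguished n X) ⟨a, a + j - 1, hL, inferInstance⟩
      ⟨a, a + j, hge, (show X.IsLE (a + j) from inferInstance)⟩ ⟨n, n, inferInstance, hR⟩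
    change clTr Pb X = clTr Pb ((t.truncLT n).obj X) + clTr Pb ((t.truncGE n).obj X) at this
    rw [this]
    refine add_mem (ih _ a hL inferInstance) ?_
    obtain ⟨Y, ⟨e⟩⟩ := DerivedCategory.exists_iso_singleFunctor_obj_of_isGE_of_isLE ((t.truncGE n).obj X) n
    rw [clTr_iso e ⟨n, n, inferInstance, hR⟩, single_mem]
    exact zsmul_mem (AddMonoidHom.mem_range.2 ⟨_, rfl⟩) _

theorem φ_surjective : Function.Surjective (φ A) := by
  rw [← AddMonoidHom.range_eq_top, eq_top_iff]
  rintro x -
  obtain ⟨x, rfl⟩ := QuotientAddGroup.mk_surjective x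
  induction x using FreeAbelianGroup.induction_on with
  | zero => exact zero_mem _
  | of X =>
    obtain ⟨X, a, b, ha, hb⟩ := X
    rw [← clTr_mk (X := X) ⟨a, b, ha, hb⟩]
    haveI := hb
    exact mem_range (b + 1 - a).toNat X a ha (t.isLE_of_le X b _ (by omega))
  | neg X h => exact neg_mem h
  | add a b ha hb => exact add_mem ha hb

/-- K₀(A) ≅ K₀(D^b A). -/
noncomputable def equiv : K0 A ≃+ K0tr (Pb (A := A)) :=
  AddEquiv.ofBijective (φ A) ⟨Function.LeftInverse.injective ψφ, φ_surjective⟩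

theorem equiv_cl (X : A) : equiv (cl X) = clTr Pb ((DerivedCategory.singleFunctor A 0).obj X) :=
  show φ A (cl X) = _ by simp [φ, KZero.cl]

end Groth.Agent.K0Der
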